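import Groth.Agent.Lib.BrauerEquiv.Period
import Mathlib.Logic.Equiv.Option
import Mathlib.Algebra.BigOperators.Option
import Mathlib.Data.Fintype.Option

set_option autoImplicit false

/-!
# Finite tensor products of central simple algebras
-/

universe u v w w'

open scoped TensorProduct
open PiTensorProduct (tprod)

namespace GrothLib.BrauerEquiv

variable (k : Type u) [Field k]

/-- Reindexing is multiplicative. -/
noncomputable def piReindex {α β : Type*} (e : α ≃ β) (s : β → Type v) [∀ b, Ring (s b)]
    [∀ b, Algebra k (s b)] : (⨂[k] b, s b) ≃ₐ[k] ⨂[k] a, s (e a) :=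
  AlgEquiv.ofLinearEquiv (PiTensorProduct.reindex k s e.symm)
    (by rw [PiTensorProduct.one_def, PiTensorProduct.reindex_tprod]; rfl)
    (by
      refine fun x y => ?_
      induction x using PiTensorProduct.induction_on with
      | smul_tprod r f =>
        induction y using PiTensorProduct.induction_on with
        | smul_tprod t g =>
          simp only [smul_mul_smul_comm, PiTensorProduct.tprod_mul_tprod, map_smul,
            PiTensorProduct.reindex_tprod]
          rfl
        | add p q hp hq => simp only [mul_add, map_add, hp, hq]
      | add p q hp hq => simp only [add_mul, map_add, hp, hq])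

section Option

variable {α : Type*} (s : Option α → Type v) [∀ i, Ring (s i)] [∀ i, Algebra k (s i)]

/-- Peeling one factor. -/
noncomputable def piOptionFwd : (⨂[k] i, s i) →ₐ[k] s none ⊗[k] (⨂[k] a, s (some a)) :=
  PiTensorProduct.liftAlgHom
    { toFun := fun f => f none ⊗ₜ[k] tprod k (fun a => f (some a))
      map_update_add' := by
        intro _ m i x y
        classical
        cases i with
        | none =>
          rw [Function.update_self, Function.update_self, Function.update_self,
            TensorProduct.add_tmul]
          simp
        | some j =>
          simp only [Function.update_of_ne (Option.some_ne_none j).symm]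
          rw [← TensorProduct.tmul_add]
          congr 1
          have h : ∀ z : s (some j), (fun a => Function.update m (some j) z (some a)) =
              Function.update (fun a => m (some a)) j z := fun z =>
            Function.update_comp_eq_of_injective' m (Option.some_injective α) j z
          rw [h, h, h, MultilinearMap.map_update_add]
      map_update_smul' := by
        intro _ m i c x
        classical
        cases i with
        | none =>
          rw [Function.update_self, Function.update_self, TensorProduct.smul_tmul']
          simp
        | some j =>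
          simp only [Function.update_of_ne (Option.some_ne_none j).symm]
          rw [← TensorProduct.tmul_smul]
          congr 1
          have h : ∀ z : s (some j), (fun a => Function.update m (some j) z (some a)) =
              Function.update (fun a => m (some a)) j z := fun z =>
            Function.update_comp_eq_of_injective' m (Option.some_injective α) j z
          rw [h, h, MultilinearMap.map_update_smul] }
    (by rfl) (fun x y => by
      simp only [MultilinearMap.coe_mk, Algebra.TensorProduct.tmul_mul_tmul,
        PiTensorProduct.tprod_mul_tprod]
      rfl)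

theorem piOptionFwd_tprod (f : ∀ i, s i) :
    piOptionFwd k s (tprod k f) = f none ⊗ₜ[k] tprod k (fun a => f (some a)) :=
  PiTensorProduct.lift.tprod f

/-- Extend by one. -/
def optionExt (f : ∀ a, s (some a)) : ∀ i, s i
  | none => 1
  | some a => f a

/-- Adding a trivial factor. -/
noncomputable def piOptionIncl : (⨂[k] a, s (some a)) →ₐ[k] ⨂[k] i, s i :=
  PiTensorProduct.liftAlgHom
    { toFun := fun f => tprod k (optionExt s f)
      map_update_add' := by
        intro _ m j x y
        classical
        have h : ∀ z : s (some j), optionExt s (Function.update m j z) =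
            Function.update (optionExt s m) (some j) z := fun z => by
          funext i
          rcases i with _ | a
          · rw [Function.update_of_ne (Option.some_ne_none j).symm]; rfl
          · rcases eq_or_ne a j with rfl | ha
            · simp [optionExt]
            · simp [optionExt, ha]
        rw [h, h, h, MultilinearMap.map_update_add]
      map_update_smul' := by
        intro _ m j c x
        classical
        have h : ∀ z : s (some j), optionExt s (Function.update m j z) =
            Function.update (optionExt s m) (some j) z := fun z => by
          funext i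
          rcases i with _ | a
          · rw [Function.update_of_ne (Option.some_ne_none j).symm]; rfl
          · rcases eq_or_ne a j with rfl | ha
            · simp [optionExt]
            · simp [optionExt, ha]
        rw [h, h, MultilinearMap.map_update_smul] }
    (by
      simp only [MultilinearMap.coe_mk, PiTensorProduct.one_def]
      congr 1
      funext i
      cases i <;> rfl)
    (fun x y => by
      simp only [MultilinearMap.coe_mk, PiTensorProduct.tprod_mul_tprod]
      congr 1
      funext i
      cases i <;> simp [optionExt])

theorem piOptionIncl_tprod (f : ∀ a, s (some a)) :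
    piOptionIncl k s (tprod k f) = tprod k (optionExt s f) :=
  PiTensorProduct.lift.tprod f

/-- Peeling one factor, as an equivalence. -/
noncomputable def piOption : (⨂[k] i, s i) ≃ₐ[k] s none ⊗[k] (⨂[k] a, s (some a)) :=
  letI := Classical.decEq (Option α)
  AlgEquiv.ofAlgHom (piOptionFwd k s)
    (Algebra.TensorProduct.lift (PiTensorProduct.singleAlgHom none) (piOptionIncl k s)
      (fun x y => by
        induction y using PiTensorProduct.induction_on with
        | smul_tprod r f =>
          rw [map_smul, piOptionIncl_tprod]
          refine Commute.smul_right (Commute.tprod ?_) r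
          funext i
          cases i <;> simp [optionExt]
        | add p q hp hq => rw [map_add]; exact hp.add_right hq))
    (by
      ext : 1
      · apply AlgHom.ext
        intro x
        simp only [AlgHom.coe_comp, Function.comp_apply, Algebra.TensorProduct.includeLeft_apply,
          Algebra.TensorProduct.lift_tmul, map_one, mul_one, PiTensorProduct.singleAlgHom_apply,
          piOptionFwd_tprod, AlgHom.id_apply]
        congr 1 <;> simp [PiTensorProduct.one_def, MonoidHom.mulSingle_apply]
        rfl
      · apply AlgHom.toLinearMap_injective
        apply PiTensorProduct.ext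
        ext f
        simp only [LinearMap.compMultilinearMap_apply, AlgHom.toLinearMap_apply, AlgHom.coe_comp,
          Function.comp_apply, AlgHom.coe_restrictScalars', AlgHom.id_apply,
          Algebra.TensorProduct.includeRight_apply, Algebra.TensorProduct.lift_tmul, map_one,
          one_mul, piOptionIncl_tprod, piOptionFwd_tprod]
        rfl)
    (by
      apply AlgHom.toLinearMap_injective
      apply PiTensorProduct.ext
      ext f
      simp only [LinearMap.compMultilinearMap_apply, AlgHom.toLinearMap_apply, AlgHom.coe_comp,
        Function.comp_apply, piOptionFwd_tprod, Algebra.TensorProduct.lift_tmul,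
        PiTensorProduct.singleAlgHom_apply, piOptionIncl_tprod, AlgHom.id_apply,
        PiTensorProduct.tprod_mul_tprod]
      congr 1
      funext i
      cases i <;> simp [optionExt, MonoidHom.mulSingle_apply])

end Option

/-- The empty tensor product. -/
noncomputable def piEmpty {α : Type*} [IsEmpty α] (s : α → Type v) [∀ a, Ring (s a)]
    [∀ a, Algebra k (s a)] : (⨂[k] a, s a) ≃ₐ[k] k :=
  AlgEquiv.ofLinearEquiv (PiTensorProduct.isEmptyEquiv (ι := α) (R := k) (s := s))
    (by rw [PiTensorProduct.one_def]; exact PiTensorProduct.isEmptyEquiv_apply_tprod (ι := α) _)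
    (by
      refine fun x y => ?_
      induction x using PiTensorProduct.induction_on with
      | smul_tprod r f =>
        induction y using PiTensorProduct.induction_on with
        | smul_tprod t g => simp [PiTensorProduct.tprod_mul_tprod, mul_comm]
        | add p q hp hq => simp only [mul_add, map_add, hp, hq]
      | add p q hp hq => simp only [add_mul, map_add, hp, hq])

variable {k}

theorem beq_tpow_tensor {A : Type v} [Ring A] [Algebra k A] {B : Type w} [Ring B] [Algebra k B]
    (u' : ℕ) :
    BEq k (CSAGal.tpow k (A ⊗[k] B) u') (CSAGal.tpow k A u' ⊗[k] CSAGal.tpow k B u') := by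
  induction u' with
  | zero =>
    exact beq_tpow_zero.trans (BEq.tensor_k.symm.trans
      (beq_tpow_zero.symm.tensor beq_tpow_zero.symm))
  | succ e ih =>
    refine (beq_tpow_succ e).trans (ih.tensor_right.trans ?_)
    refine BEq.trans ?_ ((beq_tpow_succ e).symm.tensor (beq_tpow_succ e).symm)
    exact BEq.of_algEquiv (Algebra.TensorProduct.tensorTensorTensorComm k k k k _ _ _ _)

theorem beq_tpow_congr {A : Type v} [Ring A] [Algebra k A] {d a b : ℕ}
    (h : BEq k (CSAGal.tpow k A d) k) (hab : a ≡ b [MOD d]) :
    BEq k (CSAGal.tpow k A a) (CSAGal.tpow k A b) := by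
  have key : ∀ n, BEq k (CSAGal.tpow k A n) (CSAGal.tpow k A (n % d)) := fun n => by
    have h1 : BEq k (CSAGal.tpow k A (n % d + d * (n / d))) (CSAGal.tpow k A (n % d)) :=
      (beq_tpow_add _ _).trans ((beq_tpow_mul h _).tensor_left.trans BEq.tensor_k)
    rwa [Nat.mod_add_div] at h1
  refine (key a).trans ?_
  rw [show a % d = b % d from hab]
  exact (key b).symm

theorem pi_csa {α : Type*} [Finite α] : ∀ [Fintype α] (s : α → Type v) [∀ i, Ring (s i)]
    [∀ i, Algebra k (s i)], (∀ i, IsAzumaya k (s i)) →
    IsAzumaya k (⨂[k] i, s i) ∧
      Module.finrank k (⨂[k] i, s i) = ∏ i, Module.finrank k (s i) := by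
  induction α using Finite.induction_empty_option with
  | @of_equiv α β e ih =>
    intro _ s _ _ h
    let := Fintype.ofEquiv β e.symm
    obtain ⟨ha, hd⟩ := ih (fun a => s (e a)) (fun a => h (e a))
    refine ⟨IsAzumaya.of_AlgEquiv k _ _ (piReindex k e s).symm, ?_⟩
    rw [(piReindex k e s).toLinearEquiv.finrank_eq, hd]
    exact e.prod_comp fun b => Module.finrank k (s b)
  | h_empty =>
    intro _ s _ _ h
    refine ⟨IsAzumaya.of_AlgEquiv k k _ (piEmpty k s).symm, ?_⟩
    rw [(piEmpty k s).toLinearEquiv.finrank_eq, Module.finrank_self, Fintype.prod_empty]
  | @h_option α _ ih =>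
    intro hF s _ _ h
    obtain rfl : hF = instFintypeOption := Subsingleton.elim _ _
    obtain ⟨ha, hd⟩ := ih (fun a => s (some a)) (fun a => h (some a))
    have := h none
    have := Azu.isAzumaya_tensor k (s none) (⨂[k] a, s (some a))
    refine ⟨IsAzumaya.of_AlgEquiv k _ _ (piOption k s).symm, ?_⟩
    rw [(piOption k s).toLinearEquiv.finrank_eq, Module.finrank_tensorProduct, hd,
      Fintype.prod_option]

theorem pi_beq_tpow_sum {D : Type w} [Ring D] [Algebra k D] {α : Type*} [Finite α] :
    ∀ [Fintype α] (s : α → Type v) [∀ i, Ring (s i)] [∀ i, Algebra k (s i)] (m : α → ℕ),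
      (∀ i, BEq k (s i) (CSAGal.tpow k D (m i))) →
    BEq k (⨂[k] i, s i) (CSAGal.tpow k D (∑ i, m i)) := by
  induction α using Finite.induction_empty_option with
  | @of_equiv α β e ih =>
    intro _ s _ _ m h
    let := Fintype.ofEquiv β e.symm
    have h1 := ih (fun a => s (e a)) (fun a => m (e a)) fun a => h (e a)
    rw [e.sum_comp m] at h1
    exact (BEq.of_algEquiv (piReindex k e s)).trans h1
  | h_empty =>
    intro _ s _ _ m h
    rw [Fintype.sum_empty]
    exact (BEq.of_algEquiv (piEmpty k s)).trans beq_tpow_zero.symm
  | @h_option α _ ih =>
    intro hF s _ _ m h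
    obtain rfl : hF = instFintypeOption := Subsingleton.elim _ _
    rw [Fintype.sum_option]
    exact (BEq.of_algEquiv (piOption k s)).trans
      (((h none).tensor (ih (fun a => s (some a)) (fun a => m (some a)) fun a => h (some a))).trans
        (beq_tpow_add _ _).symm)

theorem pi_beq_tpow_trivial (u' : ℕ) {α : Type*} [Finite α] :
    ∀ (s : α → Type v) [∀ i, Ring (s i)] [∀ i, Algebra k (s i)],
      (∀ i, BEq k (CSAGal.tpow k (s i) u') k) →
    BEq k (CSAGal.tpow k (⨂[k] i, s i) u') k := by
  induction α using Finite.induction_empty_option with
  | @of_equiv α β e ih =>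
    intro s _ _ h
    exact ((BEq.of_algEquiv (piReindex k e s)).tpow u').trans
      (ih (fun a => s (e a)) fun a => h (e a))
  | h_empty =>
    intro s _ _ h
    exact ((BEq.of_algEquiv (piEmpty k s)).tpow u').trans (beq_tpow_k u')
  | @h_option α _ ih =>
    intro s _ _ h
    exact ((BEq.of_algEquiv (piOption k s)).tpow u').trans ((beq_tpow_tensor u').trans
      (((h none).tensor (ih (fun a => s (some a)) fun a => h (some a))).trans BEq.tensor_k))

theorem pi_beq_tpow_single (u' : ℕ) {α : Type*} [Finite α] :
    ∀ (s : α → Type v) [∀ i, Ring (s i)] [∀ i, Algebra k (s i)] (q : α),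
      (∀ i, i ≠ q → BEq k (CSAGal.tpow k (s i) u') k) →
      BEq k (CSAGal.tpow k (s q) u') (s q) →
    BEq k (CSAGal.tpow k (⨂[k] i, s i) u') (s q) := by
  induction α using Finite.induction_empty_option with
  | @of_equiv α β e ih =>
    intro s _ _ q h hq
    obtain ⟨a, rfl⟩ := e.surjective q
    exact ((BEq.of_algEquiv (piReindex k e s)).tpow u').trans
      (ih (fun a => s (e a)) a (fun i hi => h (e i) (e.injective.ne hi)) hq)
  | h_empty =>
    intro s _ _ q
    exact q.elim
  | @h_option α _ ih =>
    intro s _ _ q h hq
    refine ((BEq.of_algEquiv (piOption k s)).tpow u').trans ((beq_tpow_tensor u').trans ?_)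
    cases q with
    | none =>
      exact (hq.tensor (pi_beq_tpow_trivial u' (fun a => s (some a))
        fun a => h _ (Option.some_ne_none a))).trans BEq.tensor_k
    | some a =>
      exact ((h none (Option.some_ne_none a).symm).tensor
        (ih (fun a => s (some a)) a (fun i hi => h _ (fun h' => hi (Option.some_injective _ h')))
          hq)).trans BEq.k_tensor

end GrothLib.BrauerEquiv
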