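import Groth.Agent.Lib.BrauerEquiv.Choose
import Mathlib.FieldTheory.Galois.Basic
import Mathlib.GroupTheory.Sylow
import Mathlib.RingTheory.MatrixAlgebra

set_option autoImplicit false

/-!
# Period and index
-/

universe u v w w'

open scoped TensorProduct

namespace GrothLib.BrauerEquiv

variable {k : Type u} [Field k]

/-- `K ⊗ M_n k = M_n K`, `K`-linearly. -/
noncomputable def matBaseChangeOne (K : Type w) [Field K] [Algebra k K] (n : ℕ) :
    K ⊗[k] Matrix (Fin n) (Fin n) k ≃ₐ[K] Matrix (Fin n) (Fin n) K :=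
  AlgEquiv.ofRingEquiv (f := (matrixEquivTensor (Fin n) k K).symm.toRingEquiv) fun c => by
    rw [Algebra.TensorProduct.algebraMap_apply]
    change (matrixEquivTensor (Fin n) k K).symm (c ⊗ₜ[k] 1) = _
    ext i j
    by_cases hij : i = j <;> simp [Matrix.one_apply, Matrix.algebraMap_matrix_apply, hij]

/-- Base change commutes with matrices. -/
noncomputable def matBaseChange (K : Type w) [Field K] [Algebra k K] (n : ℕ) (A : Type v) [Ring A]
    [Algebra k A] :
    K ⊗[k] Matrix (Fin n) (Fin n) A ≃ₐ[K] Matrix (Fin n) (Fin n) (K ⊗[k] A) :=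
  (Algebra.TensorProduct.congr (AlgEquiv.refl (R := K) (A₁ := K)) (matrixEquivTensor (Fin n) k A)).trans
    ((Azu.distribAlgEquiv k A (Matrix (Fin n) (Fin n) k) K).trans
      ((Algebra.TensorProduct.congr (AlgEquiv.refl (R := K) (A₁ := K ⊗[k] A)) (matBaseChangeOne (k := k) K n)).trans
        (matrixEquivTensor (Fin n) K (K ⊗[k] A)).symm))

theorem BEq.baseChange (K : Type w) [Field K] [Algebra k K] {A : Type v} [Ring A] [Algebra k A]
    {B : Type w'} [Ring B] [Algebra k B] (h : BEq k A B) : BEq K (K ⊗[k] A) (K ⊗[k] B) := by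
  obtain ⟨n, m, hn, hm, ⟨e⟩⟩ := h
  exact ⟨n, m, hn, hm, ⟨(matBaseChange K n A).symm.trans
    ((Algebra.TensorProduct.congr AlgEquiv.refl e).trans (matBaseChange K m B))⟩⟩

theorem beq_baseChange_tpow (K : Type w) [Field K] [Algebra k K] (A : Type v) [Ring A]
    [Algebra k A] (e : ℕ) :
    BEq K (K ⊗[k] CSAGal.tpow k A e) (CSAGal.tpow K (K ⊗[k] A) e) := by
  induction e with
  | zero =>
    exact (beq_tpow_zero.baseChange K).trans
      ((BEq.of_algEquiv (Algebra.TensorProduct.rid k K K)).trans beq_tpow_zero.symm)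
  | succ e ih =>
    exact ((beq_tpow_succ e).baseChange K).trans
      ((BEq.of_algEquiv (Azu.distribAlgEquiv k _ A K)).trans
        (ih.tensor_right.trans (beq_tpow_succ e).symm))

variable {A : Type v} [Ring A] [Algebra k A] [Algebra.IsCentral k A] [IsSimpleRing A]
  [FiniteDimensional k A]

theorem isIndex_one_of_beq_k (h : BEq k A k) : CSAGal.IsIndex k A 1 := by
  obtain ⟨d, hd⟩ := exists_isIndex (k := k) A
  have hk : CSAGal.IsIndex k k 1 :=
    ⟨one_pos, 1, k, inferInstance, inferInstance, one_pos, by simp,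
      ⟨(CyclicAlg.matrixOne k k).symm⟩⟩
  rwa [← index_unique_of_division h hd hk]

theorem beq_k_of_isIndex_one (h : CSAGal.IsIndex k A 1) : BEq k A k := by
  obtain ⟨-, m, D, _, _, hm, hD, ⟨e⟩⟩ := h
  have : FiniteDimensional k D := Module.finite_of_finrank_pos (by rw [hD]; norm_num)
  have hbij : Function.Bijective (Algebra.ofId k D) := by
    refine ⟨(Algebra.ofId k D).toRingHom.injective, ?_⟩
    exact (LinearMap.injective_iff_surjective_of_finrank_eq_finrank
      (by rw [hD, Module.finrank_self]; norm_num) (f := (Algebra.ofId k D).toLinearMap)).mp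
      (Algebra.ofId k D).toRingHom.injective
  exact BEq.of_matrix_equiv hm.ne'
    (e.trans (AlgEquiv.ofBijective (Algebra.ofId k D) hbij).symm.mapMatrix)

/-- The index divides the degree of every splitting field. -/
theorem index_dvd_finrank' {d : ℕ} (hd : CSAGal.IsIndex k A d) {L : Type w} [Field L] [Algebra k L]
    [FiniteDimensional k L] (hL : Curves.Splits k A L) : d ∣ Module.finrank k L := by
  have : Small.{u} L := small_of_finite (k := k) L
  let e : L ≃ₐ[k] Shrink.{u} L := (Shrink.algEquiv k L).symm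
  have : FiniteDimensional k (Shrink.{u} L) := Module.Finite.equiv e.toLinearEquiv
  rw [e.toLinearEquiv.finrank_eq]
  exact index_dvd_finrank hd (CSA.splits_mono e.toAlgHom hL)

theorem index_dvd_degree {d n : ℕ} (hd : CSAGal.IsIndex k A d)
    (hn : Module.finrank k A = n ^ 2) : d ∣ n := by
  obtain ⟨-, m, D, _, _, hm, hD, ⟨e⟩⟩ := hd
  have := e.toLinearEquiv.finrank_eq
  rw [hn, Module.finrank_matrix, hD] at this
  simp only [Fintype.card_fin] at this
  exact ⟨m, Nat.pow_left_injective two_ne_zero (by show n ^ 2 = (d * m) ^ 2; rw [this]; ring)⟩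

theorem splits_of_beq_k {L : Type w} [Field L] [Algebra k L] (h : BEq k A k) :
    Curves.Splits k A L := by
  obtain ⟨n, hn, ⟨e⟩⟩ : Curves.Splits k A k := splits_iff.2 h
  exact CSA.splits_mono (Algebra.ofId k L) ⟨n, hn, ⟨e⟩⟩

theorem splits_tensor {B : Type w'} [Ring B] [Algebra k B] {L : Type w} [Field L] [Algebra k L]
    (hA : Curves.Splits k A L) (hB : Curves.Splits k B L) : Curves.Splits k (A ⊗[k] B) L := by
  obtain ⟨a, ha, ⟨e⟩⟩ := hA
  obtain ⟨b, hb, ⟨f⟩⟩ := hB
  exact ⟨a * b, mul_ne_zero ha hb, ⟨((Azu.distribAlgEquiv k A B L).trans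
    (Algebra.TensorProduct.congr e f)).trans ((Matrix.kroneckerAlgEquiv (Fin a) (Fin b) L).trans
      (Matrix.reindexAlgEquiv L L finProdFinEquiv))⟩⟩

theorem splits_tpow {L : Type w} [Field L] [Algebra k L] (hA : Curves.Splits k A L) (e : ℕ) :
    Curves.Splits k (CSAGal.tpow k A e) L := by
  induction e with
  | zero =>
    obtain ⟨_, _, _⟩ := csa_tpow (k := k) A 0
    exact splits_of_beq_k beq_tpow_zero
  | succ e ih =>
    obtain ⟨_, _, _⟩ := csa_tpow (k := k) A e
    obtain ⟨n, hn, ⟨g⟩⟩ := splits_tensor ih hA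
    exact ⟨n, hn, ⟨(Algebra.TensorProduct.congr AlgEquiv.refl (CyclicAlg.tpowSucc k A e)).trans g⟩⟩

theorem index_tpow_dvd_index {d e d' : ℕ} (hd : CSAGal.IsIndex k A d)
    (hd' : CSAGal.IsIndex k (CSAGal.tpow k A e) d') : d' ∣ d := by
  obtain ⟨_, _, _⟩ := csa_tpow (k := k) A e
  obtain ⟨L, _, _, _, _, hLd, hL⟩ := exists_splitting_of_index hd
  rw [← hLd]
  exact index_dvd_finrank hd' (splits_tpow hL e)

/-- A division algebra representative. -/
theorem exists_division_model {d : ℕ} (hd : CSAGal.IsIndex k A d) :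
    ∃ (D : Type v) (_ : DivisionRing D) (_ : Algebra k D), Algebra.IsCentral k D ∧
      FiniteDimensional k D ∧ Module.finrank k D = d ^ 2 ∧ BEq k A D := by
  obtain ⟨hd0, m, D, _, _, hm, hD, ⟨e⟩⟩ := hd
  have : Nonempty (Fin m) := ⟨⟨0, hm⟩⟩
  have : Algebra.IsCentral k (Matrix (Fin m) (Fin m) D) := CSA.isCentral_of_algEquiv e
  have : Algebra.IsCentral k D := CSAExtra.isCentral_of_matrix k (Fin m)
  have : FiniteDimensional k D := Module.finite_of_finrank_pos (by rw [hD]; positivity)
  exact ⟨D, inferInstance, inferInstance, inferInstance, inferInstance, hD,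
    BEq.of_matrix_equiv hm.ne' e⟩

theorem index_tpow_dvd_choose_index {d : ℕ} (hd : CSAGal.IsIndex k A d) (r : ℕ) {d' : ℕ}
    (hd' : CSAGal.IsIndex k (CSAGal.tpow k A r) d') : d' ∣ d.choose r := by
  obtain ⟨D, _, _, _, _, hD, hAD⟩ := exists_division_model hd
  obtain ⟨_, _, _⟩ := csa_tpow (k := k) A r
  obtain ⟨_, _, _⟩ := csa_tpow (k := k) D r
  exact index_tpow_dvd_choose hD r (isIndex_congr (hAD.tpow r) hd')

theorem beq_tpow_index {d : ℕ} (hd : CSAGal.IsIndex k A d) : BEq k (CSAGal.tpow k A d) k := by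
  obtain ⟨_, _, _⟩ := csa_tpow (k := k) A d
  obtain ⟨d', hd'⟩ := exists_isIndex (k := k) (CSAGal.tpow k A d)
  have := index_tpow_dvd_choose_index hd d hd'
  rw [Nat.choose_self, Nat.dvd_one] at this
  subst this
  exact beq_k_of_isIndex_one hd'

theorem beq_tpow_of_splits {L : Type w} [Field L] [Algebra k L] [FiniteDimensional k L]
    (hL : Curves.Splits k A L) : BEq k (CSAGal.tpow k A (Module.finrank k L)) k := by
  obtain ⟨d, hd⟩ := exists_isIndex (k := k) A
  obtain ⟨c, hc⟩ := index_dvd_finrank' hd hL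
  rw [hc]
  exact beq_tpow_mul (beq_tpow_index hd) c

theorem splits_baseChange_iff {F : Type w} [Field F] [Algebra k F] {L : Type w'} [Field L]
    [Algebra k L] [Algebra F L] [IsScalarTower k F L] :
    Curves.Splits F (F ⊗[k] A) L ↔ Curves.Splits k A L := by
  constructor
  · rintro ⟨n, hn, ⟨e⟩⟩
    exact ⟨n, hn, ⟨(Azu.cancelAlgEquiv k A L F).symm.trans e⟩⟩
  · rintro ⟨n, hn, ⟨e⟩⟩
    exact ⟨n, hn, ⟨(Azu.cancelAlgEquiv k A L F).trans e⟩⟩

/-- The index over `k` divides `[F : k]` times the index over `F`. -/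
theorem index_dvd_mul (F : Type w) [Field F] [Algebra k F] [FiniteDimensional k F] {d d' : ℕ}
    (hd : CSAGal.IsIndex k A d) (hd' : CSAGal.IsIndex F (F ⊗[k] A) d') :
    d ∣ Module.finrank k F * d' := by
  obtain ⟨_, _, _⟩ := CSAExtra.csa_baseChange k F A
  obtain ⟨L, _, _, _, _, hLd, hL⟩ := exists_splitting_of_index hd'
  let : Algebra k L := ((algebraMap F L).comp (algebraMap k F)).toAlgebra
  have : IsScalarTower k F L := IsScalarTower.of_algebraMap_eq fun _ => rfl
  have : FiniteDimensional k L := Module.Finite.trans F L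
  rw [← hLd, Module.finrank_mul_finrank]
  exact index_dvd_finrank' hd (splits_baseChange_iff.1 hL)

theorem index_baseChange_dvd (F : Type w) [Field F] [Algebra k F] {d d' : ℕ}
    (hd : CSAGal.IsIndex k A d) (hd' : CSAGal.IsIndex F (F ⊗[k] A) d') : d' ∣ d := by
  obtain ⟨D, _, _, _, _, hD, hAD⟩ := exists_division_model hd
  obtain ⟨_, _, _⟩ := CSAExtra.csa_baseChange k F A
  obtain ⟨_, _, _⟩ := CSAExtra.csa_baseChange k F D
  refine index_dvd_degree (isIndex_congr (hAD.baseChange F) hd') ?_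
  rw [Module.finrank_baseChange, hD]

/-- Every prime divisor of the index divides every exponent killing the class. -/
theorem prime_dvd_of_beq_tpow {d e : ℕ} (hd : CSAGal.IsIndex k A d)
    (he : BEq k (CSAGal.tpow k A e) k) {p : ℕ} (hp : p.Prime) (hpd : p ∣ d) : p ∣ e := by
  obtain ⟨L, hLf, hLg, hL⟩ := CSA.exists_galois_intermediate k A
  have : Fact p.Prime := ⟨hp⟩
  let P : Sylow p (L ≃ₐ[k] L) := default
  let F : IntermediateField k L := IntermediateField.fixedField (P : Subgroup (L ≃ₐ[k] L))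
  obtain ⟨a, ha⟩ : ∃ a : ℕ, Nat.card P = p ^ a := IsPGroup.iff_card.1 P.2
  have hFL : Module.finrank F L = p ^ a := by
    rw [IntermediateField.finrank_fixedField_eq_card]
    exact ha
  have hindex : ¬ p ∣ Module.finrank k F := by
    intro h
    refine P.not_dvd_index ?_
    have h1 : Module.finrank k F * Module.finrank F L = Module.finrank k L :=
      Module.finrank_mul_finrank k F L
    have h2 := Subgroup.index_mul_card (P : Subgroup (L ≃ₐ[k] L))
    rw [IsGalois.card_aut_eq_finrank, ← h1, hFL, show Nat.card (P : Subgroup (L ≃ₐ[k] L)) = p ^ a from ha]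
      at h2
    rwa [Nat.eq_of_mul_eq_mul_right (pow_pos hp.pos a) h2]
  by_contra hpe
  obtain ⟨_, _, _⟩ := CSAExtra.csa_baseChange k F A
  have hs : Curves.Splits F (F ⊗[k] A) L := splits_baseChange_iff.2 hL
  have h1 : BEq F (CSAGal.tpow F (F ⊗[k] A) (p ^ a)) F := hFL ▸ beq_tpow_of_splits hs
  have h2 : BEq F (CSAGal.tpow F (F ⊗[k] A) e) F :=
    (beq_baseChange_tpow (k := k) F A e).symm.trans ((he.baseChange F).trans
      (BEq.of_algEquiv (Algebra.TensorProduct.rid k F F)))
  have hper : BEq F (CSAGal.tpow F (F ⊗[k] A) 1) F := by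
    have hcop : Nat.Coprime e (p ^ a) := ((hp.coprime_iff_not_dvd.2 hpe).pow_left a).symm
    rcases Nat.eq_zero_or_pos a with rfl | ha0
    · rwa [pow_zero] at h1
    have hlt : 1 < p ^ a := Nat.one_lt_pow ha0.ne' hp.one_lt
    obtain ⟨c, -, hc⟩ := Nat.exists_mul_mod_eq_one_of_coprime hcop hlt
    have h3 := beq_tpow_mul h2 c
    have h4 : e * c = p ^ a * (e * c / p ^ a) + 1 := by
      have := Nat.div_add_mod (e * c) (p ^ a)
      rw [hc] at this
      exact this.symm
    rw [h4] at h3
    exact beq_tpow_of_add h3 (beq_tpow_mul h1 _)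
  have hFA : BEq F (F ⊗[k] A) F := beq_tpow_one.symm.trans hper
  have := index_dvd_mul F hd (isIndex_one_of_beq_k hFA)
  rw [mul_one] at this
  exact hindex (hpd.trans this)

end GrothLib.BrauerEquiv
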