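import Groth.Agent.Lib.CSAExtra.Basic
import Groth.Agent.Lib.CSA.SplittingExists
import Groth.Agent.Lib.CyclicAlg.Tpow
import Groth.Prelude.Def_GSzCSA
import Mathlib.Algebra.Algebra.Shrink
import Mathlib.Algebra.Field.Shrink

set_option autoImplicit false

/-!
# Brauer equivalence across universes, tensor powers, index
-/

universe u v w w' w''

open scoped TensorProduct

namespace GrothLib.BrauerEquiv

variable (k : Type u) [Field k]

/-- Matrix algebras of positive sizes over `A` and `B` are isomorphic. -/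
def BEq (A : Type v) (B : Type w) [Ring A] [Algebra k A] [Ring B] [Algebra k B] : Prop :=
  ∃ n m : ℕ, n ≠ 0 ∧ m ≠ 0 ∧ Nonempty (Matrix (Fin n) (Fin n) A ≃ₐ[k] Matrix (Fin m) (Fin m) B)

variable {k}

/-- `M_n(M_m A) = M_{nm} A`. -/
noncomputable def matMat (n m : ℕ) (A : Type v) [Ring A] [Algebra k A] :
    Matrix (Fin n) (Fin n) (Matrix (Fin m) (Fin m) A) ≃ₐ[k]
      Matrix (Fin (n * m)) (Fin (n * m)) A :=
  (Matrix.compAlgEquiv (Fin n) (Fin m) A k).trans (Matrix.reindexAlgEquiv k A finProdFinEquiv)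

/-- Equal sizes give equal matrix algebras. -/
noncomputable def matCast {n m : ℕ} (h : n = m) (A : Type v) [Ring A] [Algebra k A] :
    Matrix (Fin n) (Fin n) A ≃ₐ[k] Matrix (Fin m) (Fin m) A :=
  Matrix.reindexAlgEquiv k A (finCongr h)

variable {A : Type v} [Ring A] [Algebra k A] {B : Type w} [Ring B] [Algebra k B]
  {C : Type w'} [Ring C] [Algebra k C] {E : Type w''} [Ring E] [Algebra k E]

theorem BEq.refl (A : Type v) [Ring A] [Algebra k A] : BEq k A A :=
  ⟨1, 1, one_ne_zero, one_ne_zero, ⟨AlgEquiv.refl⟩⟩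

theorem BEq.symm (h : BEq k A B) : BEq k B A := by
  obtain ⟨n, m, hn, hm, ⟨e⟩⟩ := h
  exact ⟨m, n, hm, hn, ⟨e.symm⟩⟩

theorem BEq.trans (h : BEq k A B) (h' : BEq k B C) : BEq k A C := by
  obtain ⟨n, m, hn, hm, ⟨e⟩⟩ := h
  obtain ⟨p, q, hp, hq, ⟨f⟩⟩ := h'
  exact ⟨p * n, m * q, mul_ne_zero hp hn, mul_ne_zero hm hq,
    ⟨(matMat p n A).symm.trans (e.mapMatrix.trans ((matMat p m B).trans
      ((matCast (Nat.mul_comm p m) B).trans ((matMat m p B).symm.trans
        (f.mapMatrix.trans (matMat m q C))))))⟩⟩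

theorem BEq.of_algEquiv (e : A ≃ₐ[k] B) : BEq k A B :=
  ⟨1, 1, one_ne_zero, one_ne_zero, ⟨e.mapMatrix⟩⟩

theorem BEq.matrix (n : ℕ) (hn : n ≠ 0) : BEq k (Matrix (Fin n) (Fin n) A) A :=
  ⟨1, n, one_ne_zero, hn, ⟨(matMat 1 n A).trans (matCast (one_mul n) A)⟩⟩

theorem BEq.of_matrix_equiv {n : ℕ} (hn : n ≠ 0) (e : A ≃ₐ[k] Matrix (Fin n) (Fin n) B) :
    BEq k A B :=
  (BEq.of_algEquiv e).trans (BEq.matrix n hn)

theorem BEq.tensor_right (h : BEq k A B) : BEq k (A ⊗[k] C) (B ⊗[k] C) := by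
  obtain ⟨n, m, hn, hm, ⟨e⟩⟩ := h
  obtain ⟨f⟩ := CyclicAlg.nonempty_matrix_tensor k (A := A) (B := C) n
  obtain ⟨g⟩ := CyclicAlg.nonempty_matrix_tensor k (A := B) (B := C) m
  exact ⟨n, m, hn, hm, ⟨f.symm.trans ((Algebra.TensorProduct.congr e AlgEquiv.refl).trans g)⟩⟩

theorem BEq.comm : BEq k (A ⊗[k] B) (B ⊗[k] A) :=
  BEq.of_algEquiv (Algebra.TensorProduct.comm k A B)

theorem BEq.assoc : BEq k ((A ⊗[k] B) ⊗[k] C) (A ⊗[k] (B ⊗[k] C)) :=
  BEq.of_algEquiv (Algebra.TensorProduct.assoc k k k A B C)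

theorem BEq.tensor_left (h : BEq k A B) : BEq k (C ⊗[k] A) (C ⊗[k] B) :=
  BEq.comm.trans (h.tensor_right.trans BEq.comm)

theorem BEq.tensor (h : BEq k A B) (h' : BEq k C E) : BEq k (A ⊗[k] C) (B ⊗[k] E) :=
  h.tensor_right.trans h'.tensor_left

theorem BEq.tensor_k : BEq k (A ⊗[k] k) A :=
  BEq.of_algEquiv (Algebra.TensorProduct.rid k k A)

theorem BEq.k_tensor : BEq k (k ⊗[k] A) A :=
  BEq.of_algEquiv (Algebra.TensorProduct.lid k A)

section CSA

variable [Algebra.IsCentral k A] [IsSimpleRing A] [FiniteDimensional k A]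

omit [Algebra.IsCentral k A] [IsSimpleRing A] [FiniteDimensional k A] in
theorem beq_of_splits (h : Curves.Splits k A k) : BEq k A k := by
  obtain ⟨n, hn, ⟨e⟩⟩ := h
  exact BEq.of_matrix_equiv hn ((Algebra.TensorProduct.lid k A).symm.trans e)

theorem splits_iff : Curves.Splits k A k ↔ BEq k A k := by
  refine ⟨beq_of_splits, fun ⟨n, m, hn, hm, ⟨e⟩⟩ => ?_⟩
  exact CSA.splits_of_matrix n hn
    ⟨m, hm, ⟨(Algebra.TensorProduct.lid k _).trans e⟩⟩

theorem beq_tensor_op : BEq k (A ⊗[k] Aᵐᵒᵖ) k := by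
  have hpos : Module.finrank k A ≠ 0 := Module.finrank_pos.ne'
  exact BEq.of_matrix_equiv hpos ((AlgEquiv.ofBijective _ (CSA.mulLeftRight_bijective k A)).trans
    (algEquivMatrix (Module.finBasis k A)))

omit [Algebra.IsCentral k A] [IsSimpleRing A] [FiniteDimensional k A] in
/-- Cancellation of a central simple factor. -/
theorem BEq.cancel_right [Algebra.IsCentral k C] [IsSimpleRing C] [FiniteDimensional k C]
    (h : BEq k (A ⊗[k] C) (B ⊗[k] C)) : BEq k A B := by
  have hC : BEq k (C ⊗[k] Cᵐᵒᵖ) k := beq_tensor_op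
  have h1 : BEq k A ((A ⊗[k] C) ⊗[k] Cᵐᵒᵖ) :=
    BEq.tensor_k.symm.trans ((hC.symm.tensor_left (C := A)).trans
      (BEq.assoc (A := A) (B := C) (C := Cᵐᵒᵖ)).symm)
  have h2 : BEq k B ((B ⊗[k] C) ⊗[k] Cᵐᵒᵖ) :=
    BEq.tensor_k.symm.trans ((hC.symm.tensor_left (C := B)).trans
      (BEq.assoc (A := B) (B := C) (C := Cᵐᵒᵖ)).symm)
  exact h1.trans ((h.tensor_right (C := Cᵐᵒᵖ)).trans h2.symm)

end CSA

section Tpow

variable (k)

/-- The empty tensor power. -/
noncomputable def tpowZero (A : Type v) [Ring A] [Algebra k A] : CSAGal.tpow k A 0 ≃ₐ[k] k :=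
  AlgEquiv.ofLinearEquiv (PiTensorProduct.isEmptyEquiv (ι := Fin 0) (R := k) (s := fun _ => A))
    (by rw [PiTensorProduct.one_def]; exact PiTensorProduct.isEmptyEquiv_apply_tprod (ι := Fin 0) _)
    (by
      refine fun x y => ?_
      induction x using PiTensorProduct.induction_on with
      | smul_tprod r f =>
        induction y using PiTensorProduct.induction_on with
        | smul_tprod s g =>
          simp [PiTensorProduct.tprod_mul_tprod, mul_comm]
        | add p q hp hq => simp only [mul_add, map_add, hp, hq]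
      | add p q hp hq => simp only [add_mul, map_add, hp, hq])

variable {k}

theorem beq_tpow_zero : BEq k (CSAGal.tpow k A 0) k :=
  BEq.of_algEquiv (tpowZero k A)

theorem beq_tpow_one : BEq k (CSAGal.tpow k A 1) A :=
  BEq.of_algEquiv (CyclicAlg.tpowOne k A)

theorem beq_tpow_succ (e : ℕ) : BEq k (CSAGal.tpow k A (e + 1)) (CSAGal.tpow k A e ⊗[k] A) :=
  BEq.of_algEquiv (CyclicAlg.tpowSucc k A e)

theorem BEq.tpow (h : BEq k A B) (e : ℕ) :
    BEq k (CSAGal.tpow k A e) (CSAGal.tpow k B e) := by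
  induction e with
  | zero => exact beq_tpow_zero.trans beq_tpow_zero.symm
  | succ e ih => exact (beq_tpow_succ e).trans ((ih.tensor h).trans (beq_tpow_succ e).symm)

theorem beq_tpow_add (a b : ℕ) :
    BEq k (CSAGal.tpow k A (a + b)) (CSAGal.tpow k A a ⊗[k] CSAGal.tpow k A b) := by
  induction b with
  | zero => exact BEq.tensor_k.symm.trans beq_tpow_zero.symm.tensor_left
  | succ b ih =>
    exact (beq_tpow_succ (a + b)).trans
      (ih.tensor_right.trans (BEq.assoc.trans (beq_tpow_succ b).symm.tensor_left))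

theorem beq_tpow_tpow (a b : ℕ) :
    BEq k (CSAGal.tpow k (CSAGal.tpow k A a) b) (CSAGal.tpow k A (a * b)) := by
  induction b with
  | zero => rw [mul_zero]; exact beq_tpow_zero.trans beq_tpow_zero.symm
  | succ b ih =>
    rw [mul_add, mul_one]
    exact (beq_tpow_succ b).trans (ih.tensor_right.trans (beq_tpow_add (a * b) a).symm)

theorem beq_tpow_k (e : ℕ) : BEq k (CSAGal.tpow k k e) k := by
  induction e with
  | zero => exact beq_tpow_zero
  | succ e ih => exact (beq_tpow_succ e).trans (BEq.tensor_k.trans ih)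

theorem csa_tpow (A : Type v) [Ring A] [Algebra k A] [Algebra.IsCentral k A] [IsSimpleRing A]
    [FiniteDimensional k A] (e : ℕ) :
    Algebra.IsCentral k (CSAGal.tpow k A e) ∧ IsSimpleRing (CSAGal.tpow k A e) ∧
      FiniteDimensional k (CSAGal.tpow k A e) := by
  suffices IsAzumaya k (CSAGal.tpow k A e) from CSAExtra.csa_of_isAzumaya k _
  induction e with
  | zero => exact IsAzumaya.of_AlgEquiv k k _ (tpowZero k A).symm
  | succ e ih =>
    have := CSAExtra.isAzumaya_of_csa k A
    have := Azu.isAzumaya_tensor k (CSAGal.tpow k A e) A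
    exact IsAzumaya.of_AlgEquiv k _ _ (CyclicAlg.tpowSucc k A e).symm

theorem finrank_tpow (A : Type v) [Ring A] [Algebra k A] [FiniteDimensional k A] (e : ℕ) :
    Module.finrank k (CSAGal.tpow k A e) = Module.finrank k A ^ e := by
  induction e with
  | zero => rw [(tpowZero k A).toLinearEquiv.finrank_eq, Module.finrank_self, pow_zero]
  | succ e ih =>
    rw [(CyclicAlg.tpowSucc k A e).toLinearEquiv.finrank_eq, Module.finrank_tensorProduct, ih,
      pow_succ]

variable [Algebra.IsCentral k A] [IsSimpleRing A] [FiniteDimensional k A]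

theorem splits_tpow_iff (e : ℕ) :
    Curves.Splits k (CSAGal.tpow k A e) k ↔ BEq k (CSAGal.tpow k A e) k := by
  obtain ⟨_, _, _⟩ := csa_tpow (k := k) A e
  exact splits_iff

omit [Algebra.IsCentral k A] [IsSimpleRing A] [FiniteDimensional k A] in
theorem beq_tpow_mul {a : ℕ} (h : BEq k (CSAGal.tpow k A a) k) (b : ℕ) :
    BEq k (CSAGal.tpow k A (a * b)) k :=
  (beq_tpow_tpow a b).symm.trans ((h.tpow b).trans (beq_tpow_k b))

omit [Algebra.IsCentral k A] [IsSimpleRing A] [FiniteDimensional k A] in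
theorem beq_tpow_of_add {a b : ℕ} (hab : BEq k (CSAGal.tpow k A (a + b)) k)
    (ha : BEq k (CSAGal.tpow k A a) k) : BEq k (CSAGal.tpow k A b) k :=
  BEq.k_tensor.symm.trans (ha.symm.tensor_right.trans ((beq_tpow_add a b).symm.trans hab))

theorem period_dvd_iff {p : ℕ} (hp : CSAGal.IsPeriod k A p) (e : ℕ) :
    BEq k (CSAGal.tpow k A e) k ↔ p ∣ e := by
  obtain ⟨hp0, hs, hmin⟩ := hp
  rw [splits_tpow_iff] at hs
  constructor
  · intro h
    rw [← Nat.mod_add_div e p, add_comm] at h
    have h2 := beq_tpow_of_add h (beq_tpow_mul hs _)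
    refine Nat.dvd_of_mod_eq_zero (Nat.eq_zero_of_not_pos fun h0 => ?_)
    exact hmin _ h0 (Nat.mod_lt _ hp0) ((splits_tpow_iff _).2 h2)
  · rintro ⟨c, rfl⟩
    exact beq_tpow_mul hs c

end Tpow

section Index

/-- A finite-dimensional algebra has a model in the universe of the field. -/
theorem small_of_finite (A : Type v) [Ring A] [Algebra k A] [FiniteDimensional k A] : Small.{u} A :=
  small_of_injective (Module.finBasis k A).equivFun.injective

theorem exists_model (A : Type v) [Ring A] [Algebra k A] [Algebra.IsCentral k A] [IsSimpleRing A]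
    [FiniteDimensional k A] :
    ∃ (M : Type u) (_ : Ring M) (_ : Algebra k M), Algebra.IsCentral k M ∧ IsSimpleRing M ∧
      FiniteDimensional k M ∧ Nonempty (A ≃ₐ[k] M) := by
  have := small_of_finite (k := k) A
  let e : A ≃ₐ[k] Shrink.{u} A := (Shrink.algEquiv k A).symm
  exact ⟨Shrink.{u} A, inferInstance, inferInstance, CSA.isCentral_of_algEquiv e,
    IsSimpleRing.of_ringEquiv e.toRingEquiv inferInstance, Module.Finite.equiv e.toLinearEquiv,
    ⟨e⟩⟩

theorem exists_isIndex (A : Type v) [Ring A] [Algebra k A] [Algebra.IsCentral k A] [IsSimpleRing A]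
    [FiniteDimensional k A] : ∃ d, CSAGal.IsIndex k A d := by
  obtain ⟨n, hn, D, _, _, _, _, ⟨e⟩⟩ := CSAExtra.exists_matrix_centralDivisionRing k A
  obtain ⟨d, hd⟩ := CSA.finrank_isSquare k D
  have hd0 : 0 < d := Nat.pos_of_ne_zero fun h => by
    have := Module.finrank_pos (R := k) (M := D)
    rw [hd, h] at this
    simp at this
  exact ⟨d, hd0, n, D, inferInstance, inferInstance, Nat.pos_of_ne_zero hn.out,
    by rw [hd, sq], ⟨e⟩⟩

/-- The index of a Brauer class. -/
theorem index_unique_of_division [Algebra.IsCentral k A] [IsSimpleRing A]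
    [FiniteDimensional k A] (h : BEq k A B) {d d' : ℕ} (hd : CSAGal.IsIndex k A d)
    (hd' : CSAGal.IsIndex k B d') : d = d' := by
  obtain ⟨-, m, D, _, _, hm, hD, ⟨e⟩⟩ := hd
  obtain ⟨-, m', D', _, _, hm', hD', ⟨e'⟩⟩ := hd'
  have : FiniteDimensional k (Matrix (Fin m) (Fin m) D) := Module.Finite.equiv e.toLinearEquiv
  have : Nonempty (Fin m) := ⟨⟨0, hm⟩⟩
  have : FiniteDimensional k D :=
    Module.Finite.of_injective (Matrix.scalarAlgHom (Fin m) k).toLinearMap
      (fun x y h => by simpa using congr_fun (congr_fun h ⟨0, hm⟩) ⟨0, hm⟩)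
  obtain ⟨n, n', hn, hn', ⟨f⟩⟩ :=
    (BEq.of_matrix_equiv hm.ne' e).symm.trans (h.trans (BEq.of_matrix_equiv hm'.ne' e'))
  have : NeZero n := ⟨hn⟩
  have : NeZero n' := ⟨hn'⟩
  obtain ⟨g⟩ := CSA.divisionRing_unique f
  have := g.toLinearEquiv.finrank_eq
  rw [hD, hD'] at this
  exact Nat.pow_left_injective two_ne_zero this

theorem isIndex_congr (h : BEq k A B) [Algebra.IsCentral k A] [IsSimpleRing A]
    [FiniteDimensional k A] [Algebra.IsCentral k B] [IsSimpleRing B] [FiniteDimensional k B]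
    {d : ℕ} (hd : CSAGal.IsIndex k A d) : CSAGal.IsIndex k B d := by
  obtain ⟨d', hd'⟩ := exists_isIndex (k := k) B
  rwa [index_unique_of_division h hd hd']

theorem isIndex_of_division (D : Type v) [DivisionRing D] [Algebra k D] (A : Type v) [Ring A]
    [Algebra k A] [Nontrivial A] [FiniteDimensional k D] {m : ℕ}
    (e : A ≃ₐ[k] Matrix (Fin m) (Fin m) D) {d : ℕ} (hd : Module.finrank k D = d ^ 2) :
    CSAGal.IsIndex k A d := by
  have hd0 : 0 < d := Nat.pos_of_ne_zero fun h => by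
    have := Module.finrank_pos (R := k) (M := D)
    rw [hd, h] at this
    simp at this
  refine ⟨hd0, m, D, inferInstance, inferInstance, Nat.pos_of_ne_zero fun h => ?_, hd, ⟨e⟩⟩
  subst h
  exact not_subsingleton A (e.toEquiv.subsingleton)

theorem splits_congr_beq [Algebra.IsCentral k A] [IsSimpleRing A] [FiniteDimensional k A]
    [Algebra.IsCentral k B] [IsSimpleRing B] [FiniteDimensional k B]
    {L : Type w''} [Field L] [Algebra k L] (h : BEq k A B) (hs : Curves.Splits k A L) :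
    Curves.Splits k B L := by
  obtain ⟨n, m, hn, hm, ⟨e⟩⟩ := h
  have h1 := CSA.splits_matrix n hn hs
  obtain ⟨r, hr, ⟨f⟩⟩ := h1
  exact CSA.splits_of_matrix m hm ⟨r, hr, ⟨(Algebra.TensorProduct.congr AlgEquiv.refl e.symm).trans f⟩⟩

/-- The index divides the degree of every finite splitting field (in the universe of `k`). -/
theorem index_dvd_finrank [Algebra.IsCentral k A] [IsSimpleRing A] [FiniteDimensional k A]
    {d : ℕ} (hd : CSAGal.IsIndex k A d) {L : Type u} [Field L] [Algebra k L]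
    [FiniteDimensional k L] (hL : Curves.Splits k A L) : d ∣ Module.finrank k L := by
  obtain ⟨-, m, D, _, _, hm, hD, ⟨e⟩⟩ := hd
  have : Nonempty (Fin m) := ⟨⟨0, hm⟩⟩
  have : FiniteDimensional k (Matrix (Fin m) (Fin m) D) := Module.Finite.equiv e.toLinearEquiv
  have : Algebra.IsCentral k (Matrix (Fin m) (Fin m) D) := CSA.isCentral_of_algEquiv e
  have : Algebra.IsCentral k D := CSAExtra.isCentral_of_matrix k (Fin m)
  have : FiniteDimensional k D :=
    Module.Finite.of_injective (Matrix.scalarAlgHom (Fin m) k).toLinearMap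
      (fun x y h => by simpa using congr_fun (congr_fun h ⟨0, hm⟩) ⟨0, hm⟩)
  have := small_of_finite (k := k) D
  let g : D ≃ₐ[k] Shrink.{u} D := (Shrink.algEquiv k D).symm
  have : Algebra.IsCentral k (Shrink.{u} D) := CSA.isCentral_of_algEquiv g
  have : FiniteDimensional k (Shrink.{u} D) := Module.Finite.equiv g.toLinearEquiv
  refine CSA.degree_dvd (Shrink.{u} D) d (by rw [← g.toLinearEquiv.finrank_eq, hD]) ?_
  exact splits_congr_beq ((BEq.of_matrix_equiv hm.ne' e).trans (BEq.of_algEquiv g)) hL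

/-- A splitting field of degree the index. -/
theorem exists_splitting_of_index [Algebra.IsCentral k A] [IsSimpleRing A] [FiniteDimensional k A]
    {d : ℕ} (hd : CSAGal.IsIndex k A d) :
    ∃ (L : Type u) (_ : Field L) (_ : Algebra k L), FiniteDimensional k L ∧
      Algebra.IsSeparable k L ∧ Module.finrank k L = d ∧ Curves.Splits k A L := by
  obtain ⟨-, m, D, _, _, hm, hD, ⟨e⟩⟩ := hd
  have : Nonempty (Fin m) := ⟨⟨0, hm⟩⟩
  have : FiniteDimensional k (Matrix (Fin m) (Fin m) D) := Module.Finite.equiv e.toLinearEquiv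
  have : Algebra.IsCentral k (Matrix (Fin m) (Fin m) D) := CSA.isCentral_of_algEquiv e
  have : Algebra.IsCentral k D := CSAExtra.isCentral_of_matrix k (Fin m)
  have : FiniteDimensional k D :=
    Module.Finite.of_injective (Matrix.scalarAlgHom (Fin m) k).toLinearMap
      (fun x y h => by simpa using congr_fun (congr_fun h ⟨0, hm⟩) ⟨0, hm⟩)
  obtain ⟨L, hc, hsep, he⟩ := CSA.exists_separable_centralizer_eq (k := k) (D := D)
  let : CommRing L := { L.toRing with mul_comm := fun x y => Subtype.ext (hc x x.2 y y.2) }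
  let := fieldOfFiniteDimensional k L
  have hdim := CSA.finrank_sq_of_centralizer_eq L hc he
  have hLD : Curves.Splits k D L := CSA.splits_of_contains L.val hdim
  have hd' : Module.finrank k L = d := by
    rw [hD] at hdim
    exact (Nat.pow_left_injective two_ne_zero hdim).symm
  let ι : L →ₐ[k] SeparableClosure k := IsSepClosed.lift
  let eι : L ≃ₐ[k] ι.fieldRange := AlgEquiv.ofInjectiveField ι
  refine ⟨ι.fieldRange, inferInstance, inferInstance, Module.Finite.equiv eι.toLinearEquiv,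
    AlgEquiv.Algebra.isSeparable eι, by rw [← eι.toLinearEquiv.finrank_eq, hd'], ?_⟩
  exact splits_congr_beq (BEq.of_matrix_equiv hm.ne' e).symm (CSA.splits_mono eι.toAlgHom hLD)

end Index

end GrothLib.BrauerEquiv
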