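import Mathlib.LinearAlgebra.Matrix.Determinant.Basic
import Mathlib.LinearAlgebra.Matrix.ToLin
import Mathlib.LinearAlgebra.Dimension.Constructions
import Mathlib.LinearAlgebra.FiniteDimensional.Basic
import Mathlib.LinearAlgebra.Matrix.RowCol
import Mathlib.Data.Fin.Tuple.Sort
import Mathlib.Data.Fintype.Powerset
import Mathlib.GroupTheory.Perm.Sign

set_option autoImplicit false

/-!
# Tensor products of matrices and the antisymmetrizer
-/

universe u

open Matrix Equiv

namespace GrothLib.BrauerEquiv

variable {K : Type u} [Field K] (n r : ℕ)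

/-- Kronecker product of `r` matrices. -/
def Tm (M : Fin r → Matrix (Fin n) (Fin n) K) :
    Matrix (Fin r → Fin n) (Fin r → Fin n) K :=
  Matrix.of fun f g => ∏ i, M i (f i) (g i)

theorem Tm_mul (M N : Fin r → Matrix (Fin n) (Fin n) K) :
    Tm n r (fun i => M i * N i) = Tm n r M * Tm n r N := by
  ext f g
  simp only [Tm, Matrix.mul_apply, Matrix.of_apply, Fintype.prod_sum, ← Finset.prod_mul_distrib]

theorem Tm_one : Tm n r (fun _ => (1 : Matrix (Fin n) (Fin n) K)) = 1 := by
  ext f g
  by_cases h : f = g
  · subst h; simp [Tm]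
  · obtain ⟨i, hi⟩ := Function.ne_iff.1 h
    rw [Matrix.one_apply_ne h]
    simp only [Tm, Matrix.of_apply]
    exact Finset.prod_eq_zero (Finset.mem_univ i) (Matrix.one_apply_ne hi)

variable (K) in
/-- The antisymmetrizer. -/
def antisym : Matrix (Fin r → Fin n) (Fin r → Fin n) K :=
  Matrix.of fun f g => ∑ π : Perm (Fin r), if g = f ∘ π then ((Perm.sign π : ℤ) : K) else 0

theorem Tm_comm_antisym (M : Matrix (Fin n) (Fin n) K) :
    Tm n r (fun _ => M) * antisym K n r = antisym K n r * Tm n r (fun _ => M) := by
  ext f g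
  simp only [Matrix.mul_apply, Tm, antisym, Matrix.of_apply, Finset.mul_sum, Finset.sum_mul]
  rw [Finset.sum_comm]
  conv_rhs => rw [Finset.sum_comm]
  refine Finset.sum_congr rfl fun π _ => ?_
  simp only [mul_ite, mul_zero, ite_mul, zero_mul]
  rw [Finset.sum_eq_single (g ∘ ⇑(π⁻¹)), Finset.sum_eq_single (f ∘ ⇑π)]
  · have h1 : g = (g ∘ ⇑(π⁻¹)) ∘ ⇑π := by funext i; simp
    rw [if_pos rfl, if_pos h1, mul_comm]
    congr 1
    refine Fintype.prod_equiv π.symm _ _ fun i => ?_
    simp
  · intro h _ hh
    exact if_neg hh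
  · simp
  · intro h _ hh
    refine if_neg fun e => hh ?_
    funext i
    simp [e]
  · simp

theorem antisym_row_of_not_injective (f : Fin r → Fin n) (hf : ¬ Function.Injective f) :
    (antisym K n r) f = 0 := by
  obtain ⟨i, j, hij, hne⟩ : ∃ i j, f i = f j ∧ i ≠ j := by
    simpa [Function.Injective] using hf
  funext g
  show ∑ π : Perm (Fin r), (if g = f ∘ π then ((Perm.sign π : ℤ) : K) else 0) = 0
  have hswap : ∀ π : Perm (Fin r), f ∘ ⇑(swap i j * π) = f ∘ ⇑π := by
    intro π
    funext l
    simp only [Function.comp_apply, Perm.coe_mul]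
    rcases eq_or_ne (π l) i with h | h
    · rw [h, swap_apply_left, hij]
    rcases eq_or_ne (π l) j with h' | h'
    · rw [h', swap_apply_right, hij]
    · rw [swap_apply_of_ne_of_ne h h']
  refine Finset.sum_involution (fun π _ => swap i j * π) (fun π _ => ?_) (fun π _ _ h => ?_)
    (fun π _ => Finset.mem_univ _) (fun π _ => ?_)
  · rw [hswap]
    by_cases h : g = f ∘ π
    · rw [if_pos h, if_pos h, Perm.sign_mul, Perm.sign_swap hne]
      simp
    · rw [if_neg h, if_neg h, add_zero]
  · exact hne (swap_eq_one_iff.1 (mul_eq_right.1 h))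
  · rw [← mul_assoc, swap_mul_self, one_mul]

theorem antisym_row_comp (f : Fin r → Fin n) (ρ : Perm (Fin r)) :
    (antisym K n r) (f ∘ ρ) = ((Perm.sign ρ : ℤ) : K) • (antisym K n r) f := by
  funext g
  show ∑ π : Perm (Fin r), (if g = (f ∘ ρ) ∘ π then ((Perm.sign π : ℤ) : K) else 0) =
    ((Perm.sign ρ : ℤ) : K) * ∑ π : Perm (Fin r), if g = f ∘ π then ((Perm.sign π : ℤ) : K) else 0
  rw [Finset.mul_sum]
  refine Fintype.sum_equiv (Equiv.mulLeft ρ) _ _ fun π => ?_
  simp only [Equiv.coe_mulLeft, Perm.coe_mul, Function.comp_assoc, mul_ite, mul_zero]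
  congr 1
  rw [Perm.sign_mul, Units.val_mul, Int.cast_mul, ← mul_assoc, ← Int.cast_mul,
    ← Units.val_mul, Int.units_mul_self]
  simp

/-- Increasing tuples. -/
def Inc := {f : Fin r → Fin n // StrictMono f}

instance : Fintype (Inc n r) := by unfold Inc; infer_instance

theorem card_inc : Fintype.card (Inc n r) = n.choose r := by
  classical
  let e : Inc n r ≃ {s : Finset (Fin n) // s.card = r} :=
    { toFun := fun f => ⟨Finset.univ.image f.1,
        by rw [Finset.card_image_of_injective _ f.2.injective]; simp⟩
      invFun := fun s => ⟨s.1.orderEmbOfFin s.2, (s.1.orderEmbOfFin s.2).strictMono⟩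
      left_inv := fun f => Subtype.ext (Finset.orderEmbOfFin_unique _
        (fun x => Finset.mem_image_of_mem _ (Finset.mem_univ x)) f.2).symm
      right_inv := fun s => Subtype.ext (Finset.image_orderEmbOfFin_univ s.1 s.2) }
  rw [Fintype.card_congr e, Fintype.card_finset_len, Fintype.card_fin]

theorem finrank_rows :
    Module.finrank K (Submodule.span K (Set.range (antisym K n r))) = n.choose r := by
  classical
  have hspan : Submodule.span K (Set.range (antisym K n r)) =
      Submodule.span K (Set.range fun f : Inc n r => (antisym K n r) f.1) := by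
    refine le_antisymm (Submodule.span_le.2 ?_) (Submodule.span_mono ?_)
    · rintro _ ⟨f, rfl⟩
      by_cases hf : Function.Injective f
      · have hs : StrictMono (f ∘ Tuple.sort f) :=
          (Tuple.monotone_sort f).strictMono_of_injective (hf.comp (Tuple.sort f).injective)
        have : f = (f ∘ Tuple.sort f) ∘ ⇑(Tuple.sort f)⁻¹ := by funext i; simp
        rw [SetLike.mem_coe, this, antisym_row_comp]
        exact Submodule.smul_mem _ _ (Submodule.subset_span ⟨⟨_, hs⟩, rfl⟩)
      · rw [SetLike.mem_coe, antisym_row_of_not_injective n r f hf]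
        exact Submodule.zero_mem _
    · rintro _ ⟨f, rfl⟩
      exact ⟨f.1, rfl⟩
  rw [hspan, finrank_span_eq_card, card_inc]
  rw [Fintype.linearIndependent_iff]
  intro c hc f₀
  have h := congr_fun hc f₀.1
  simp only [Finset.sum_apply, Pi.smul_apply, Pi.zero_apply, smul_eq_mul] at h
  rw [Finset.sum_eq_single f₀] at h
  · have hE : antisym K n r f₀.1 f₀.1 = 1 := by
      show ∑ π : Perm (Fin r), (if f₀.1 = f₀.1 ∘ π then ((Perm.sign π : ℤ) : K) else 0) = 1
      rw [Finset.sum_eq_single 1]
      · simp
      · intro π _ hπ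
        refine if_neg fun e => hπ ?_
        ext i
        exact congrArg Fin.val (f₀.2.injective (congr_fun e i)).symm
      · simp
    rwa [hE, mul_one] at h
  · intro f _ hf
    have : antisym K n r f.1 f₀.1 = 0 := by
      refine Finset.sum_eq_zero fun π _ => if_neg fun e => hf ?_
      have hπ : StrictMono (π : Fin r → Fin r) := fun a b hab =>
        f.2.lt_iff_lt.1 (by have := f₀.2 hab; rwa [e] at this)
      have : (π : Fin r → Fin r) = id := hπ.range_inj strictMono_id |>.1 (by simp)
      exact Subtype.ext (by rw [e, this]; rfl)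
    rw [this, mul_zero]
  · simp

/-- The left ideal generated by the antisymmetrizer. -/
theorem finrank_mulRight_antisym :
    Module.finrank K (LinearMap.range (LinearMap.mulRight K (antisym K n r))) =
      n ^ r * n.choose r := by
  let E := antisym K n r
  let V := LinearMap.range E.vecMulLinear
  let J : ((Fin r → Fin n) → V) →ₗ[K] Matrix (Fin r → Fin n) (Fin r → Fin n) K :=
    { toFun := fun v => Matrix.of fun f => (v f).1
      map_add' := fun v w => rfl
      map_smul' := fun c v => rfl }
  have hJ : Function.Injective J := fun v w h => funext fun f => Subtype.ext (congr_fun h f)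
  have hrange : LinearMap.range (LinearMap.mulRight K E) = LinearMap.range J := by
    refine le_antisymm ?_ ?_
    · rintro _ ⟨X, rfl⟩
      exact ⟨fun f => ⟨(X f) ᵥ* E, X f, rfl⟩, rfl⟩
    · rintro _ ⟨v, rfl⟩
      choose w hw using fun f => (v f).2
      refine ⟨Matrix.of w, ?_⟩
      funext f
      exact hw f
  show Module.finrank K (LinearMap.range (LinearMap.mulRight K E)) = _
  rw [hrange, LinearMap.finrank_range_of_inj hJ, Module.finrank_pi_fintype]
  have hV : Module.finrank K V = n.choose r := by
    show Module.finrank K (LinearMap.range E.vecMulLinear) = _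
    rw [range_vecMulLinear]
    exact finrank_rows n r
  simp [hV]

end GrothLib.BrauerEquiv
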