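import Groth.Agent.Lib.BrauerEquiv.LeftIdeal
import Groth.Agent.Lib.BrauerEquiv.Antisym
import Groth.Agent.Lib.GalDescent.Tensor

set_option autoImplicit false

/-!
# The index of the `r`-th tensor power divides `n.choose r`
-/

universe u v w

open scoped TensorProduct

namespace GrothLib.BrauerEquiv

variable {k : Type u} [Field k]

theorem finrank_range_baseChange {K : Type w} [Field K] [Algebra k K] {V W : Type v}
    [AddCommGroup V] [Module k V] [AddCommGroup W] [Module k W] [FiniteDimensional k W]
    (f : V →ₗ[k] W) :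
    Module.finrank K (LinearMap.range (f.baseChange K)) = Module.finrank k (LinearMap.range f) := by
  have h1 : f.baseChange K =
      (LinearMap.range f).subtype.baseChange K ∘ₗ f.rangeRestrict.baseChange K := by
    rw [← LinearMap.baseChange_comp]
    rfl
  have h2 : Function.Surjective (f.rangeRestrict.baseChange K) := by
    intro y
    obtain ⟨z, hz⟩ := LinearMap.lTensor_surjective K f.surjective_rangeRestrict y
    exact ⟨z, hz⟩
  have h3 : Function.Injective ((LinearMap.range f).subtype.baseChange K) :=
    Module.Flat.lTensor_preserves_injective_linearMap (LinearMap.range f).subtype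
      Subtype.val_injective
  rw [h1, LinearMap.range_comp, LinearMap.range_eq_top.2 h2, Submodule.map_top,
    LinearMap.finrank_range_of_inj h3, Module.finrank_baseChange]

variable {A : Type v} [Ring A] [Algebra k A] [Algebra.IsCentral k A] [IsSimpleRing A]
  [FiniteDimensional k A]

/-- The tensor power has an element whose left ideal has reduced rank `n.choose r`. -/
theorem exists_antisym_element {n : ℕ} (hn : Module.finrank k A = n ^ 2) (r : ℕ) :
    ∃ e : CSAGal.tpow k A r,
      Module.finrank k (LinearMap.range (LinearMap.mulRight k e)) = n ^ r * n.choose r := by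
  classical
  obtain ⟨K, hKf, hKg, N, hN, ⟨φ⟩⟩ := CSA.exists_galois_intermediate k A
  have hNn : N = n := by
    have := CSA.finrank_eq_sq_of_equiv φ
    rw [hn, ← sq] at this
    exact (Nat.pow_left_injective two_ne_zero this).symm
  subst hNn
  have hn0 : 0 < N := Nat.pos_of_ne_zero hN
  have : Nonempty (Fin N) := ⟨⟨0, hn0⟩⟩
  -- the coordinate map
  let g : A →ₐ[k] Matrix (Fin N) (Fin N) K :=
    (φ.toAlgHom.restrictScalars k).comp Algebra.TensorProduct.includeRight
  let mult : MultilinearMap k (fun _ : Fin r => A) (Matrix (Fin r → Fin N) (Fin r → Fin N) K) :=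
    { toFun := fun a => Tm N r fun i => g (a i)
      map_update_add' := by
        intro _ m i x y
        ext f f'
        have hP : ∀ v, (∏ j ∈ Finset.univ.erase i, g (Function.update m i v j) (f j) (f' j)) =
            ∏ j ∈ Finset.univ.erase i, g (m j) (f j) (f' j) := fun v =>
          Finset.prod_congr rfl fun j hj => by rw [Function.update_of_ne (Finset.ne_of_mem_erase hj)]
        simp only [Tm, Matrix.of_apply, Matrix.add_apply]
        rw [← Finset.mul_prod_erase _ _ (Finset.mem_univ i),
          ← Finset.mul_prod_erase _ _ (Finset.mem_univ i),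
          ← Finset.mul_prod_erase _ _ (Finset.mem_univ i), hP, hP, hP]
        simp only [Function.update_self, map_add, Matrix.add_apply, add_mul]
      map_update_smul' := by
        intro _ m i c x
        ext f f'
        have hP : ∀ v, (∏ j ∈ Finset.univ.erase i, g (Function.update m i v j) (f j) (f' j)) =
            ∏ j ∈ Finset.univ.erase i, g (m j) (f j) (f' j) := fun v =>
          Finset.prod_congr rfl fun j hj => by rw [Function.update_of_ne (Finset.ne_of_mem_erase hj)]
        simp only [Tm, Matrix.of_apply, Matrix.smul_apply]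
        rw [← Finset.mul_prod_erase _ _ (Finset.mem_univ i),
          ← Finset.mul_prod_erase _ _ (Finset.mem_univ i), hP, hP]
        simp only [Function.update_self, map_smul, Matrix.smul_apply, smul_mul_assoc] }
  let ι : CSAGal.tpow k A r →ₐ[k] Matrix (Fin r → Fin N) (Fin r → Fin N) K :=
    PiTensorProduct.liftAlgHom mult
      (by show Tm N r (fun i => g 1) = 1; simp only [map_one]; exact Tm_one N r)
      (fun x y => by
        show Tm N r (fun i => g (x i * y i)) = Tm N r (fun i => g (x i)) * Tm N r (fun i => g (y i))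
        simp only [map_mul]
        exact Tm_mul N r _ _)
  have hι : ∀ a : Fin r → A, ι (PiTensorProduct.tprod k a) = Tm N r fun i => g (a i) :=
    fun a => PiTensorProduct.lift.tprod _
  obtain ⟨_, hs, hf⟩ := csa_tpow (k := k) A r
  obtain ⟨g'⟩ := CSA.baseChange_equiv (k := k) (k' := K) (A := CSAGal.tpow k A r) ι (by
    rw [finrank_tpow, hn, Module.finrank_matrix]
    simp only [Fintype.card_fun, Fintype.card_fin, Module.finrank_self, mul_one]
    ring)
  let Φ : K ⊗[k] CSAGal.tpow k A r →ₐ[K] Matrix (Fin r → Fin N) (Fin r → Fin N) K :=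
    Algebra.TensorProduct.lift (Algebra.ofId K _) ι (fun c _ => Algebra.commutes c _)
  have hΦ : Function.Bijective Φ := by
    have := CSA.isSimpleRing_baseChange (k := k) (A := CSAGal.tpow k A r) K
    have : Nonempty (Fin r → Fin N) := ⟨fun _ => ⟨0, hn0⟩⟩
    have hinj : Function.Injective Φ :=
      RingHom.injective (R := K ⊗[k] CSAGal.tpow k A r) Φ.toRingHom
    exact ⟨hinj, (LinearMap.injective_iff_surjective_of_finrank_eq_finrank
      g'.toLinearEquiv.finrank_eq (f := Φ.toLinearMap)).1 hinj⟩
  have hΦt : ∀ (c : K) (z : CSAGal.tpow k A r), Φ (c ⊗ₜ z) = c • ι z := fun c z => by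
    simp [Φ, Algebra.smul_def]
  -- the twisting cocycle
  have htw : ∀ σ : K ≃ₐ[k] K, ∃ u : (Matrix (Fin N) (Fin N) K)ˣ,
      ∀ a, g a = (u : Matrix (Fin N) (Fin N) K) * (g a).map σ * (u⁻¹ : (Matrix (Fin N) (Fin N) K)ˣ) := by
    intro σ
    let ψ : Matrix (Fin N) (Fin N) K →ₐ[K] Matrix (Fin N) (Fin N) K :=
      { toFun := fun M => φ ((Algebra.TensorProduct.map (σ : K →ₐ[k] K) (AlgHom.id k A))
          (φ.symm (M.map σ.symm)))
        map_one' := by simp [Matrix.map_one σ.symm (map_zero _) (map_one _)]
        map_mul' := fun M M' => by simp [Matrix.map_mul]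
        map_zero' := by simp [Matrix.map_zero σ.symm (map_zero _)]
        map_add' := fun M M' => by simp [Matrix.map_add σ.symm (map_add _)]
        commutes' := fun c => by
          simp only [Matrix.algebraMap_eq_diagonal, Matrix.diagonal_map (map_zero σ.symm)]
          have h1 : (Matrix.diagonal fun i => σ.symm ((algebraMap K (Fin N → K) c) i)) =
              algebraMap K (Matrix (Fin N) (Fin N) K) (σ.symm c) := by
            rw [Matrix.algebraMap_eq_diagonal]; rfl
          show φ _ = Matrix.diagonal _
          rw [h1, φ.symm.commutes, Algebra.TensorProduct.algebraMap_apply,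
            Algebra.TensorProduct.map_tmul]
          simp only [Algebra.algebraMap_self, RingHom.id_apply, map_one]
          rw [show (σ : K →ₐ[k] K) (σ.symm c) = c from σ.apply_symm_apply c,
            show (c ⊗ₜ[k] (1 : A)) = algebraMap K (K ⊗[k] A) c from
              (Algebra.TensorProduct.algebraMap_apply c).symm, φ.commutes,
            Matrix.algebraMap_eq_diagonal]
          }
    obtain ⟨u, hu⟩ := CSA.skolem_noether ψ (AlgHom.id K _)
    refine ⟨u, fun a => ?_⟩
    have h := hu ((g a).map σ)
    simp only [AlgHom.id_apply] at h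
    rw [← h]
    show g a = φ ((Algebra.TensorProduct.map (σ : K →ₐ[k] K) (AlgHom.id k A))
      (φ.symm (((g a).map σ).map σ.symm)))
    rw [Matrix.map_map, show (σ.symm : K → K) ∘ σ = id from funext σ.symm_apply_apply,
      Matrix.map_id]
    simp [g]
  -- the antisymmetrizer is fixed
  obtain ⟨z, hz⟩ := hΦ.2 (antisym K N r)
  have hfix : ∀ σ : K ≃ₐ[k] K, σ • z = z := by
    intro σ
    apply hΦ.1
    obtain ⟨u, hu⟩ := htw σ
    have hU : Tm N r (fun _ => (u : Matrix (Fin N) (Fin N) K)) *
        Tm N r (fun _ => ((u⁻¹ : (Matrix (Fin N) (Fin N) K)ˣ) : Matrix (Fin N) (Fin N) K)) = 1 := by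
      rw [← Tm_mul]; simp only [Units.mul_inv]; exact Tm_one N r
    have hιt : ∀ t, ι t = Tm N r (fun _ => (u : Matrix (Fin N) (Fin N) K)) * (ι t).map σ *
        Tm N r (fun _ => ((u⁻¹ : (Matrix (Fin N) (Fin N) K)ˣ) : Matrix (Fin N) (Fin N) K)) := by
      intro t
      induction t using PiTensorProduct.induction_on with
      | smul_tprod c a =>
        rw [map_smul, hι]
        have h1 : (c • Tm N r fun i => g (a i)).map σ = c • (Tm N r fun i => g (a i)).map σ := by
          ext f f'
          rw [Matrix.map_apply, Matrix.smul_apply, Matrix.smul_apply, Matrix.map_apply, map_smul]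
        have h2 : (Tm N r fun i => g (a i)).map σ = Tm N r fun i => (g (a i)).map σ := by
          ext f f'
          simp [Tm, Matrix.map_apply, map_prod]
        rw [h1, h2, mul_smul_comm, smul_mul_assoc, ← Tm_mul, ← Tm_mul]
        congr 2
        funext i
        exact hu (a i)
      | add x y hx hy =>
        rw [map_add, Matrix.map_add σ (map_add _), mul_add, add_mul, ← hx, ← hy]
    have key : ∀ w : K ⊗[k] CSAGal.tpow k A r, Φ (σ • w) =
        Tm N r (fun _ => (u : Matrix (Fin N) (Fin N) K)) * (Φ w).map σ *
          Tm N r (fun _ => ((u⁻¹ : (Matrix (Fin N) (Fin N) K)ˣ) : Matrix (Fin N) (Fin N) K)) := by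
      intro w
      induction w using TensorProduct.induction_on with
      | zero => simp [Matrix.map_zero σ (map_zero _)]
      | tmul c t =>
        rw [TensorProduct.smul_tmul', hΦt, hΦt, AlgEquiv.smul_def,
          Matrix.map_smul' σ (r := c) _ (map_mul σ), mul_smul_comm, smul_mul_assoc, ← hιt]
      | add x y hx hy =>
        rw [smul_add, map_add, map_add, hx, hy, Matrix.map_add σ (map_add _), mul_add, add_mul]
    have hEσ : (antisym K N r).map σ = antisym K N r := by
      ext f f'
      simp [antisym, Matrix.map_apply, map_sum, apply_ite σ]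
    rw [key, hz, hEσ, Tm_comm_antisym, mul_assoc, hU, mul_one]
  obtain ⟨e, he⟩ := GalDescent.exists_one_tmul_of_fixed hfix
  refine ⟨e, ?_⟩
  rw [← finrank_range_baseChange (K := K) (LinearMap.mulRight k e)]
  let ΦL := (AlgEquiv.ofBijective Φ hΦ).toLinearEquiv
  have hconj : ΦL.toLinearMap ∘ₗ (LinearMap.mulRight k e).baseChange K =
      LinearMap.mulRight K (antisym K N r) ∘ₗ ΦL.toLinearMap := by
    refine TensorProduct.AlgebraTensorModule.ext fun c t => ?_
    show Φ (c ⊗ₜ[k] (t * e)) = Φ (c ⊗ₜ[k] t) * antisym K N r
    rw [← hz, ← he, ← map_mul, Algebra.TensorProduct.tmul_mul_tmul, mul_one]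
  rw [← finrank_mulRight_antisym (K := K) N r,
    ← LinearEquiv.finrank_map_eq ΦL (LinearMap.range ((LinearMap.mulRight k e).baseChange K))]
  have h : Submodule.map ΦL.toLinearMap (LinearMap.range ((LinearMap.mulRight k e).baseChange K)) =
      LinearMap.range (LinearMap.mulRight K (antisym K N r)) := by
    rw [← LinearMap.range_comp, hconj, LinearMap.range_comp, LinearMap.range_eq_top.2 ΦL.surjective,
      Submodule.map_top]
  exact congrArg (fun p : Submodule K (Matrix (Fin r → Fin N) (Fin r → Fin N) K) =>
    Module.finrank K p) h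

/-- The index of a tensor power. -/
theorem index_tpow_dvd_choose {n : ℕ} (hn : Module.finrank k A = n ^ 2) (r : ℕ) {d : ℕ}
    (hd : CSAGal.IsIndex k (CSAGal.tpow k A r) d) : d ∣ n.choose r := by
  obtain ⟨_, _, _⟩ := csa_tpow (k := k) A r
  obtain ⟨e, he⟩ := exists_antisym_element hn r
  refine index_dvd_of_leftIdeal hd (n ^ r) (n.choose r) ?_ e he
  rw [finrank_tpow, hn, ← pow_mul, ← pow_mul, mul_comm]

end GrothLib.BrauerEquiv
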