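import Groth.Agent.Lib.BrauerEquiv.Basic

set_option autoImplicit false

/-!
# The index divides the reduced rank of every left ideal
-/

universe u v

open scoped TensorProduct

namespace GrothLib.BrauerEquiv

variable {k : Type u} [Field k]

theorem index_dvd_of_leftIdeal {B : Type v} [Ring B] [Algebra k B] [Algebra.IsCentral k B]
    [IsSimpleRing B] [FiniteDimensional k B] {d : ℕ} (hd : CSAGal.IsIndex k B d) (N C : ℕ)
    (hB : Module.finrank k B = N ^ 2) (e : B)
    (he : Module.finrank k (LinearMap.range (LinearMap.mulRight k e)) = N * C) : d ∣ C := by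
  obtain ⟨hd0, m, D, _, _, hm, hD, ⟨f⟩⟩ := hd
  have : NeZero m := ⟨hm.ne'⟩
  have := CSA.isArtinianRing k B
  have hf : Function.Surjective f.toAlgHom := f.surjective
  have := CSA.isSimpleModule_col (k := k) (D := D) f.toAlgHom hf
  let S := CSA.Rep ((CSA.colRep k D m).comp f.toAlgHom)
  let L : Submodule B B :=
    { carrier := Set.range (LinearMap.mulRight k e)
      zero_mem' := ⟨0, by simp⟩
      add_mem' := by
        rintro _ _ ⟨x, rfl⟩ ⟨y, rfl⟩
        exact ⟨x + y, by simp [add_mul]⟩
      smul_mem' := by
        rintro c _ ⟨x, rfl⟩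
        exact ⟨c * x, by simp [mul_assoc]⟩ }
  have hL : Module.finrank k L = N * C := he
  have : Module.Finite k L := Module.Finite.of_injective (L.subtype.restrictScalars k) L.subtype_injective
  have : Module.Finite B L := Module.Finite.of_restrictScalars_finite k B L
  obtain ⟨a, ⟨g⟩⟩ := CSA.exists_linearEquiv_pi (R := B) S L
  have hfD : FiniteDimensional k D := Module.finite_of_finrank_pos (by rw [hD]; positivity)
  have : Module.Finite k S := inferInstanceAs (Module.Finite k (Fin m → D))
  have hS : Module.finrank k S = m * d ^ 2 := by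
    show Module.finrank k (Fin m → D) = _
    rw [Module.finrank_pi_fintype]
    simp [hD]
  have h1 : N * C = a * (m * d ^ 2) := by
    rw [← hL, (g.restrictScalars k).finrank_eq, Module.finrank_pi_fintype]
    simp [hS]
  have h2 : N = m * d := by
    have := f.toLinearEquiv.finrank_eq
    rw [hB, Module.finrank_matrix, hD] at this
    simp only [Fintype.card_fin] at this
    exact Nat.pow_left_injective two_ne_zero (by show N ^ 2 = (m * d) ^ 2; rw [this]; ring)
  refine ⟨a, Nat.eq_of_mul_eq_mul_left (show 0 < m * d by positivity) ?_⟩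
  rw [← h2, h1, h2]
  ring

end GrothLib.BrauerEquiv
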