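import Groth.Agent.Lib.BrauerEquiv.Basic
import Mathlib.Algebra.QuaternionBasis
import Mathlib.Tactic.LinearCombination
import Mathlib.Tactic.Module

set_option autoImplicit false

/-!
# A four-dimensional central division algebra is a quaternion algebra
-/

universe u v

namespace GrothLib.BrauerEquiv

open Module

theorem exists_quaternion {k : Type u} [Field k] (h2 : (2 : k) ≠ 0) (D : Type v) [DivisionRing D]
    [Algebra k D] [Algebra.IsCentral k D] [FiniteDimensional k D]
    (hD : finrank k D = 4) :
    ∃ a b : k, Nonempty (QuaternionAlgebra k a 0 b ≃ₐ[k] D) := by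
  -- a quadratic element outside `k`
  obtain ⟨L, hc, -, he⟩ := CSA.exists_separable_centralizer_eq (k := k) (D := D)
  have hdim := CSA.finrank_sq_of_centralizer_eq L hc he
  rw [hD, show 4 = 2 ^ 2 from rfl] at hdim
  have hL2 : finrank k L = 2 := (Nat.pow_left_injective two_ne_zero hdim).symm
  have hex : ∃ x : L, x ∉ (⊥ : Subalgebra k L) := by
    by_contra h
    push Not at h
    have htop : (⊥ : Subalgebra k L) = ⊤ := eq_top_iff.2 fun x _ => h x
    have := congr_arg (fun S : Subalgebra k L => finrank k S) htop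
    simp only [Subalgebra.finrank_bot] at this
    rw [Subalgebra.topEquiv.toLinearEquiv.finrank_eq, hL2] at this
    norm_num at this
  obtain ⟨x, hx⟩ := hex
  have hli : LinearIndependent k ![(1 : L), x] := by
    rw [LinearIndependent.pair_iff' one_ne_zero]
    intro c hc'
    exact hx ⟨c, by simp [← hc', Algebra.algebraMap_eq_smul_one]⟩
  have hspan := hli.span_eq_top_of_card_eq_finrank (by simp [hL2])
  have hxx : x * x ∈ Submodule.span k ({1, x} : Set L) := by
    have : Set.range ![(1 : L), x] = {1, x} := by simp [Set.pair_comm]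
    rw [← this, hspan]; trivial
  obtain ⟨t, s, hts⟩ := Submodule.mem_span_pair.1 hxx
  have hts' : t • (1 : D) + s • (x : D) = (x : D) * x := by
    have := congr_arg Subtype.val hts
    simpa using this
  set i : D := (x : D) - (s / 2) • (1 : D) with hidef
  set a : k := t + (s / 2) ^ 2 with hadef
  have hi : i * i = a • (1 : D) := by
    rw [hidef, hadef]
    simp only [sub_mul, mul_sub, smul_mul_assoc, mul_smul_comm, one_mul, mul_one, ← hts', smul_smul]
    match_scalars <;> field_simp <;> ring
  have hik : ∀ c : k, i ≠ c • (1 : D) := by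
    intro c hc'
    refine hx ⟨c + s / 2, Subtype.ext ?_⟩
    have : (x : D) = c • (1 : D) + (s / 2) • (1 : D) := by rw [← hc', hidef, sub_add_cancel]
    simp [this, Algebra.algebraMap_eq_smul_one, add_smul]
  clear_value i a
  -- an element not commuting with it
  have hy : ∃ y : D, i * y ≠ y * i := by
    by_contra h
    push Not at h
    obtain ⟨c, hc'⟩ := (Algebra.IsCentral.center_eq_bot k D).le
      (Subalgebra.mem_center_iff.2 fun y => (h y).symm)
    exact hik c (by rw [← hc']; simp [Algebra.algebraMap_eq_smul_one])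
  obtain ⟨y, hy⟩ := hy
  set j : D := i * y - y * i with hjdef
  have hj0 : j ≠ 0 := sub_ne_zero.2 hy
  have hij : i * j = -(j * i) := by
    rw [hjdef, mul_sub, sub_mul, ← mul_assoc, hi, mul_assoc y, hi]
    simp only [smul_mul_assoc, mul_smul_comm, one_mul, mul_one, mul_assoc]
    abel
  have hji : j * i = -(i * j) := by rw [hij, neg_neg]
  clear_value j
  -- independence
  have hindep : ∀ c₀ c₁ c₂ c₃ : k,
      c₀ • (1 : D) + c₁ • i + c₂ • j + c₃ • (i * j) = 0 → c₀ = 0 ∧ c₁ = 0 ∧ c₂ = 0 ∧ c₃ = 0 := by
    intro c₀ c₁ c₂ c₃ h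
    have hi2 : i * (c₀ • (1 : D) + c₁ • i + c₂ • j + c₃ • (i * j)) -
        (c₀ • (1 : D) + c₁ • i + c₂ • j + c₃ • (i * j)) * i = 0 := by rw [h, mul_zero, zero_mul, sub_zero]
    have hiij : i * (i * j) = a • j := by rw [← mul_assoc, hi, smul_mul_assoc, one_mul]
    have hiji : i * j * i = -(a • j) := by rw [mul_assoc, hji, mul_neg, hiij]
    simp only [mul_add, add_mul, mul_smul_comm, smul_mul_assoc, one_mul, mul_one, hi, hiij, hiji,
      hji] at hi2
    have hi3 : (2 : k) • ((c₂ • i + (c₃ * a) • (1 : D)) * j) = 0 := by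
      rw [← hi2, add_mul, smul_mul_assoc, smul_mul_assoc, one_mul]
      module
    have hi4 : c₂ • i + (c₃ * a) • (1 : D) = 0 :=
      (mul_eq_zero.1 ((smul_eq_zero.1 hi3).resolve_left h2)).resolve_right hj0
    have hc2 : c₂ = 0 := by
      by_contra hc2
      refine hik (-(c₂⁻¹ * (c₃ * a))) ?_
      have h5 := congr_arg (c₂⁻¹ • ·) hi4
      simp only [smul_add, smul_smul, inv_mul_cancel₀ hc2, one_smul, smul_zero] at h5
      rw [neg_smul, eq_neg_iff_add_eq_zero]
      exact h5
    have ha : a ≠ 0 := by
      intro ha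
      rw [ha, zero_smul] at hi
      exact hik 0 (by rw [zero_smul]; exact mul_self_eq_zero.1 hi)
    have hc3 : c₃ = 0 := by
      rw [hc2, zero_smul, zero_add, smul_eq_zero] at hi4
      rcases hi4 with h4 | h4
      · exact (mul_eq_zero.1 h4).resolve_right ha
      · exact absurd h4 one_ne_zero
    rw [hc2, hc3, zero_smul, zero_smul, add_zero, add_zero] at h
    have hc1 : c₁ = 0 := by
      by_contra hc1
      refine hik (-(c₁⁻¹ * c₀)) ?_
      have h5 := congr_arg (c₁⁻¹ • ·) h
      simp only [smul_add, smul_smul, inv_mul_cancel₀ hc1, one_smul, smul_zero] at h5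
      rw [neg_smul, eq_neg_iff_add_eq_zero, add_comm]
      exact h5
    rw [hc1, zero_smul, add_zero, smul_eq_zero] at h
    exact ⟨h.resolve_right one_ne_zero, hc1, hc2, hc3⟩
  have hli4 : LinearIndependent k ![(1 : D), i, j, i * j] := by
    rw [Fintype.linearIndependent_iff]
    intro g hg
    simp only [Fin.sum_univ_four, Matrix.cons_val_zero, Matrix.cons_val_one,
      Matrix.cons_val] at hg
    obtain ⟨e0, e1, e2, e3⟩ := hindep _ _ _ _ hg
    intro l
    fin_cases l <;> assumption
  have hspan4 := hli4.span_eq_top_of_card_eq_finrank (by simp [hD])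
  -- `j²` is central
  have hjj : ∃ b : k, j * j = b • (1 : D) := by
    have hci : i * (j * j) = j * j * i := by
      rw [← mul_assoc, hij, neg_mul, mul_assoc, hij, mul_neg, neg_neg, mul_assoc]
    have hcentral : ∀ z : D, z * (j * j) = j * j * z := by
      intro z
      have hz : z ∈ Submodule.span k (Set.range ![(1 : D), i, j, i * j]) := by
        rw [hspan4]; trivial
      induction hz using Submodule.span_induction with
      | mem w hw =>
        obtain ⟨l, rfl⟩ := hw
        fin_cases l
        · simp
        · simpa using hci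
        · simp [mul_assoc]
        · simp only [Fin.reduceFinMk, Matrix.cons_val]
          rw [mul_assoc i j, show j * (j * j) = j * j * j from (mul_assoc _ _ _).symm, ← mul_assoc,
            hci, mul_assoc]
      | zero => simp
      | add p q _ _ hp hq => rw [add_mul, mul_add, hp, hq]
      | smul c p _ hp => rw [smul_mul_assoc, mul_smul_comm, hp]
    obtain ⟨b, hb⟩ := (Algebra.IsCentral.center_eq_bot k D).le
      (Subalgebra.mem_center_iff.2 hcentral)
    exact ⟨b, by rw [← hb]; simp [Algebra.algebraMap_eq_smul_one]⟩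
  obtain ⟨b, hb⟩ := hjj
  let q : QuaternionAlgebra.Basis D a 0 b :=
    ⟨i, j, i * j, by rw [hi, zero_smul, add_zero], hb, rfl, by rw [zero_smul, zero_sub, hji]⟩
  have hinj : Function.Injective q.liftHom := by
    rw [injective_iff_map_eq_zero]
    intro w hw
    obtain ⟨e0, e1, e2, e3⟩ := hindep w.re w.imI w.imJ w.imK
      (by rw [← hw, Algebra.smul_def, mul_one]; rfl)
    exact QuaternionAlgebra.ext e0 e1 e2 e3
  refine ⟨a, b, ⟨AlgEquiv.ofBijective q.liftHom ⟨hinj, ?_⟩⟩⟩
  exact (LinearMap.injective_iff_surjective_of_finrank_eq_finrank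
    (by rw [QuaternionAlgebra.finrank_eq_four, hD]) (f := q.liftHom.toLinearMap)).1 hinj

end GrothLib.BrauerEquiv
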